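import Cfsg.Agent.Lib.Helper17.ReeTor.Pkgs2

set_option autoImplicit false

/-!
# (TOR1) the local structure of the centralisers of the elements of prime order dividing `Q`
-/

universe u

namespace Cfsg.Agent.Lib.Helper61.ReeTor

open Cfsg.Agent.Lib.Helper17.ReeTor

theorem coprime_of_no_prime {a b : ℕ} (H : ∀ p : ℕ, p.Prime → p ∣ a → p ∣ b → False) :
    Nat.Coprime a b := by
  by_contra h
  obtain ⟨p, hp, hd⟩ := Nat.exists_prime_and_dvd h
  exact H p hp (hd.trans (Nat.gcd_dvd_left a b)) (hd.trans (Nat.gcd_dvd_right a b))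

theorem memC {G : Type u} [Group G] (y x : G) :
    x ∈ Subgroup.centralizer ({y} : Set G) ↔ x * y = y * x := by
  rw [Subgroup.mem_centralizer_iff]
  constructor
  · intro h; exact (h y rfl).symm
  · intro h z hz; rw [Set.mem_singleton_iff] at hz; subst hz; exact h.symm

theorem pkgTor1 : PkgTor1.{u} := by
  intro hOrb hAR0 G _ _ m q hm hq hG hab hstar hsix hQ hcyc p hp hpQ y hy
  obtain ⟨-, -, -, hcq, hcq1, hcq2, -⟩ := hAR0 m q (3 ^ (m + 1)) hm hq rfl
  unfold TorLocal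
  -- arithmetic
  obtain ⟨k, hk⟩ : ∃ k, q ^ 2 = q + k := ⟨q ^ 2 - q, by
    have : q ≤ q ^ 2 := Nat.le_self_pow two_ne_zero q
    omega⟩
  have hQk : q ^ 2 - q + 1 = k + 1 := by omega
  have hGQ : Nat.card G = (q ^ 2 - q + 1) * (q ^ 3 * ((q + 1) * (q - 1))) := by
    rw [hG, hQk]
    have h3 : q ^ 3 + 1 = (q + 1) * (k + 1) := by
      calc q ^ 3 + 1 = q ^ 2 * q + 1 := by ring
        _ = (q + k) * q + 1 := by rw [hk]
        _ = q ^ 2 + k * q + 1 := by ring
        _ = (q + k) + k * q + 1 := by rw [hk]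
        _ = (q + 1) * (k + 1) := by ring
    rw [h3]; ring
  have hQR : Nat.Coprime (q ^ 2 - q + 1) (q ^ 3 * ((q + 1) * (q - 1))) :=
    Nat.Coprime.mul_right (Nat.Coprime.pow_right 3 hcq) (Nat.Coprime.mul_right hcq2 hcq1)
  set C : Subgroup G := Subgroup.centralizer ({y} : Set G) with hCdef
  have hmem : ∀ x : G, x ∈ C ↔ x * y = y * x := fun x => memC y x
  have hyC : y ∈ C := (hmem y).2 rfl
  have hCQ : ∀ x ∈ C, x ^ (q ^ 2 - q + 1) = 1 :=
    fun x hx => hQ p hp hpQ y x hy ((hmem x).1 hx)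
  have hprimeQ : ∀ p' : ℕ, p'.Prime → p' ∣ Nat.card ↥C → p' ∣ q ^ 2 - q + 1 := by
    intro p' hp' hd
    have := Fact.mk hp'
    obtain ⟨x, hx⟩ := exists_prime_orderOf_dvd_card' p' hd
    have h1 : orderOf (x : G) = p' := by rw [Subgroup.orderOf_coe]; exact hx
    rw [← h1]
    exact orderOf_dvd_of_pow_eq_one (hCQ x x.2)
  have hCcop : Nat.Coprime (Nat.card ↥C) (q ^ 3 * ((q + 1) * (q - 1))) := by
    apply coprime_of_no_prime
    intro p' hp' h1 h2
    have h3 := Nat.dvd_gcd (hprimeQ p' hp' h1) h2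
    rw [Nat.Coprime.gcd_eq_one hQR] at h3
    exact hp'.one_lt.ne' (Nat.dvd_one.1 h3)
  have hCdvd : Nat.card ↥C ∣ q ^ 2 - q + 1 := by
    have h1 : Nat.card ↥C ∣ (q ^ 2 - q + 1) * (q ^ 3 * ((q + 1) * (q - 1))) := by
      rw [← hGQ]; exact Subgroup.card_subgroup_dvd_card C
    exact Nat.Coprime.dvd_of_dvd_mul_right hCcop h1
  have hcent : ∀ x ∈ C, x ≠ 1 → Subgroup.centralizer ({x} : Set G) = C := by
    intro x hx hx1
    have hox : orderOf x ≠ 1 := fun h => hx1 (orderOf_eq_one_iff.1 h)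
    obtain ⟨p', hp', hp'd⟩ := Nat.exists_prime_and_dvd hox
    have hox0 : orderOf x ≠ 0 := (orderOf_pos x).ne'
    have hx'o : orderOf (x ^ (orderOf x / p')) = p' := orderOf_pow_orderOf_div hox0 hp'd
    have hx'C : x ^ (orderOf x / p') ∈ C := C.pow_mem hx _
    have hp'Q : p' ∣ q ^ 2 - q + 1 := by
      rw [← hx'o]; exact orderOf_dvd_of_pow_eq_one (hCQ _ hx'C)
    apply le_antisymm
    · intro g hg
      rw [memC] at hg
      rw [hmem]
      have h1 : g * x ^ (orderOf x / p') = x ^ (orderOf x / p') * g :=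
        ((Commute.pow_right (show Commute g x from hg) _)).eq
      have h2 : y * x ^ (orderOf x / p') = x ^ (orderOf x / p') * y :=
        ((hmem _).1 hx'C).symm
      exact hab p' hp' hp'Q (x ^ (orderOf x / p')) g y hx'o h1 h2
    · intro c hc
      rw [memC]
      exact hab p hp hpQ y c x hy ((hmem c).1 hc) ((hmem x).1 hx)
  have hSyl : ∀ (p' : ℕ) [Fact p'.Prime], p' ∣ Nat.card ↥C →
      ∃ S : Sylow p' G, (S : Subgroup G) ≤ C := by
    intro p' hp'F hd
    have hp' : p'.Prime := hp'F.out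
    obtain ⟨x, hx⟩ := exists_prime_orderOf_dvd_card' p' hd
    have h1 : orderOf (x : G) = p' := by rw [Subgroup.orderOf_coe]; exact hx
    have hx1 : (x : G) ≠ 1 := by
      intro h; rw [h, orderOf_one] at h1; exact hp'.one_lt.ne h1
    have hpz : IsPGroup p' ↥(Subgroup.zpowers (x : G)) :=
      IsPGroup.of_card (n := 1) (by rw [Nat.card_zpowers, h1, pow_one])
    obtain ⟨S, hS⟩ := hpz.exists_le_sylow
    have : IsCyclic ↥(S : Subgroup G) := hcyc p' (hprimeQ p' hp' hd) S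
    refine ⟨S, ?_⟩
    intro s hs
    rw [← hcent (x : G) x.2 hx1, memC]
    have hxS : (x : G) ∈ (S : Subgroup G) := hS (Subgroup.mem_zpowers _)
    obtain ⟨g, hg⟩ := IsCyclic.exists_generator (α := ↥(S : Subgroup G))
    obtain ⟨a, ha⟩ := Subgroup.mem_zpowers_iff.1 (hg ⟨s, hs⟩)
    obtain ⟨b, hb⟩ := Subgroup.mem_zpowers_iff.1 (hg ⟨(x : G), hxS⟩)
    have h2 : (⟨s, hs⟩ : ↥(S : Subgroup G)) * ⟨(x : G), hxS⟩ = ⟨(x : G), hxS⟩ * ⟨s, hs⟩ := by
      rw [← ha, ← hb, ← zpow_add, ← zpow_add, add_comm]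
    exact congrArg Subtype.val h2
  have hCpos : 0 < Nat.card ↥C := Nat.card_pos
  have hcop3 : Nat.Coprime (Nat.card ↥C) ((q ^ 2 - q + 1) / Nat.card ↥C) := by
    apply coprime_of_no_prime
    intro p' hp' h1 h2
    have := Fact.mk hp'
    obtain ⟨S, hS⟩ := hSyl p' h1
    have h3 : ¬ p' ∣ (S : Subgroup G).index := S.not_dvd_index
    apply h3
    rw [← Subgroup.relIndex_mul_index hS]
    have h4 : C.index = (q ^ 2 - q + 1) / Nat.card ↥C * (q ^ 3 * ((q + 1) * (q - 1))) := by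
      apply Nat.eq_of_mul_eq_mul_left hCpos
      rw [Subgroup.card_mul_index, hGQ]
      conv_rhs => rw [← mul_assoc, Nat.mul_div_cancel' hCdvd]
    rw [h4]
    exact Dvd.dvd.mul_left (Dvd.dvd.mul_right h2 _) _
  have hconj : ∀ p' : ℕ, p'.Prime → p' ∣ Nat.card ↥C → ∀ w : G, orderOf w = p' →
      ∃ a : G, a * w * a⁻¹ ∈ C := by
    intro p' hp' hd w hw
    have := Fact.mk hp'
    obtain ⟨S, hS⟩ := hSyl p' hd
    have hpz : IsPGroup p' ↥(Subgroup.zpowers w) :=
      IsPGroup.of_card (n := 1) (by rw [Nat.card_zpowers, hw, pow_one])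
    obtain ⟨S', hS'⟩ := hpz.exists_le_sylow
    obtain ⟨g, hg⟩ := MulAction.exists_smul_eq G S S'
    have hwS' : w ∈ (S' : Subgroup G) := hS' (Subgroup.mem_zpowers w)
    rw [← hg, Sylow.coe_subgroup_smul, Subgroup.mem_pointwise_smul_iff_inv_smul_mem] at hwS'
    refine ⟨g⁻¹, hS ?_⟩
    have h5 : (MulAut.conj g)⁻¹ • w = g⁻¹ * w * g⁻¹⁻¹ := by
      rw [← map_inv]; rfl
    rw [← h5]; exact hwS'
  have hnorm : ∃ n : ℕ, 1 ≤ n ∧ n ≤ 6 ∧
      Nat.card ↥(Subgroup.normalizer (C : Set G)) = n * Nat.card ↥C := by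
    set N := Subgroup.normalizer (C : Set G) with hN
    have hCN : C ≤ N := Subgroup.le_normalizer
    let : MulAction ↥N G :=
      MulAction.compHom G ((MulAut.conj : G →* MulAut G).comp N.subtype)
    have hsmul : ∀ (g : ↥N) (x : G), g • x = (g : G) * x * (g : G)⁻¹ := fun g x => rfl
    have hstab : MulAction.stabilizer ↥N y = C.subgroupOf N := by
      ext g
      rw [MulAction.mem_stabilizer_iff, Subgroup.mem_subgroupOf, hmem, hsmul,
        mul_inv_eq_iff_eq_mul]
    have hidx : (C.subgroupOf N).index = (MulAction.orbit ↥N y).ncard := by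
      rw [← hstab]; exact MulAction.index_stabilizer ↥N y
    have hcardN : (C.subgroupOf N).index * Nat.card ↥C = Nat.card ↥N := by
      rw [← Subgroup.index_mul_card (C.subgroupOf N)]
      congr 1
      exact (Nat.card_congr (Subgroup.subgroupOfEquivOfLe hCN).toEquiv).symm
    have : Fact p.Prime := ⟨hp⟩
    have horb : Nat.card ↥(MulAction.orbit ↥N y) ≤ 6 := by
      apply hOrb G p y (MulAction.orbit ↥N y) hy
      intro w hw
      obtain ⟨g, hg⟩ := hw
      have hw' : w = (g : G) * y * (g : G)⁻¹ := hg.symm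
      have hgy : (g : G) * y * (g : G)⁻¹ ∈ C := ((Subgroup.mem_normalizer_iff.1 g.2) y).1 hyC
      have hord : ((g : G) * y * (g : G)⁻¹) ^ p = 1 := by
        rw [conj_pow, ← hy, pow_orderOf_eq_one, mul_one, mul_inv_cancel]
      have hz := hstar p hp hpQ y _ hy ((hmem _).1 hgy) hord
      rw [← mem_powers_iff_mem_zpowers] at hz
      obtain ⟨k, hk⟩ := (Submonoid.mem_powers_iff _ _).1 hz
      exact ⟨k, hw'.trans hk.symm, hsix p hp hpQ y (g : G) k hy hk.symm⟩
    refine ⟨(C.subgroupOf N).index, ?_, ?_, hcardN.symm⟩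
    · exact Nat.one_le_iff_ne_zero.2 Subgroup.index_ne_zero_of_finite
    · rw [hidx, ← Nat.card_coe_set_eq]; exact horb
  have hcyclic : IsCyclic ↥C := by
    have hZ : IsZGroup ↥C := by
      refine ⟨fun p' hp' P => ?_⟩
      have := Fact.mk hp'
      rcases P.2.card_eq_or_dvd with h1 | h1
      · have : Subsingleton ↥(P : Subgroup ↥C) := (Nat.card_eq_one_iff_unique.1 h1).1
        exact isCyclic_of_subsingleton
      · have hp'C : p' ∣ Nat.card ↥C := h1.trans (Subgroup.card_subgroup_dvd_card _)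
        have hp'Q := hprimeQ p' hp' hp'C
        have hmap : IsPGroup p' ↥((P : Subgroup ↥C).map C.subtype) := P.2.map C.subtype
        obtain ⟨S, hS⟩ := hmap.exists_le_sylow
        have : IsCyclic ↥(S : Subgroup G) := hcyc p' hp'Q S
        have : IsCyclic ↥((P : Subgroup ↥C).map C.subtype) := Subgroup.isCyclic_of_le hS
        exact ((P : Subgroup ↥C).equivMapOfInjective C.subtype
          C.subtype_injective).isCyclic.2 inferInstance
    let : CommGroup ↥C := { (inferInstance : Group ↥C) with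
      mul_comm := fun a b => Subtype.ext
        (hab p hp hpQ y a b hy ((hmem a).1 a.2) ((hmem b).1 b.2)) }
    infer_instance
  exact ⟨hcyclic, hCdvd, hcop3, hcent, hconj, hnorm⟩

end Cfsg.Agent.Lib.Helper61.ReeTor
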